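import Groth.Agent.TildeLpull.Adapted

/-!
# Derived base change corresponds to derived inverse image
-/

set_option autoImplicit false
set_option linter.style.haveILetI false
set_option linter.unusedSectionVars false
set_option backward.isDefEq.respectTransparency false

universe u

open CategoryTheory Limits AlgebraicGeometry

attribute [local instance] HasDerivedCategory.standard

noncomputable section

namespace Groth.Agent.TildeLpull

open Groth.Agent.KFlat Groth.Agent.DCohLib Groth.Agent.TildeKFlat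

/-- The derived category functor of sheaves of modules factors. -/
def tildeDFactors (R : CommRingCat.{u}) [PreservesFiniteLimits (tilde.functor R)] :
    DerivedCategory.Q ⋙ DCoh.tildeD R ≅ tilCx R ⋙ DerivedCategory.Q :=
  (tilde.functor R).mapDerivedCategoryFactors

variable {A B : Type u} [CommRing A] [CommRing B] (φ : A →+* B)
  [PreservesFiniteLimits (tilde.functor (CommRingCat.of A))]
  [PreservesFiniteLimits (tilde.functor (CommRingCat.of B))]
  [DRing.HasLBaseChange φ] [DCoh.HasLpull (specMap φ)]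

/-- The counit of derived base change. -/
abbrev bcCounit : DerivedCategory.Qh ⋙ DRing.LBaseChange φ ⟶ DRing.baseChangeKh φ :=
  (DRing.baseChangeKh φ).totalLeftDerivedCounit DerivedCategory.Qh
    (HomotopyCategory.quasiIso (ModuleCat.{u} A) (ComplexShape.up ℤ))

theorem isIso_bcCounit_app (K : CochainComplex (ModuleCat.{u} A) ℤ) :
    IsIso ((bcCounit φ).app ((HomotopyCategory.quotient (ModuleCat.{u} A) (ComplexShape.up ℤ)).obj ((resM A).obj K))) :=
  haveI : (HomotopyCategory.quotient (ModuleCat.{u} A) (ComplexShape.up ℤ) ⋙ DerivedCategory.Qh).IsLocalization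
      (HomologicalComplex.quasiIso (ModuleCat.{u} A) (ComplexShape.up ℤ)) :=
    Functor.IsLocalization.of_iso _ (DerivedCategory.quotientCompQhIso (ModuleCat.{u} A)).symm
  (bcAdapted φ).isIso_app_of_comp (W' := HomotopyCategory.quasiIso (ModuleCat.{u} A) (ComplexShape.up ℤ))
    (HomotopyCategory.quotient (ModuleCat.{u} A) (ComplexShape.up ℤ))
    DerivedCategory.Qh (DRing.LBaseChange φ) (bcCounit φ) _
    ((bcAdapted φ).isIso_map K)

/-- The derived base change of the resolution. -/
def bcResIso : resM A ⋙ DerivedCategory.Q ⋙ DRing.LBaseChange φ ≅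
    resM A ⋙ extCx φ ⋙ DerivedCategory.Q :=
  let qA := DerivedCategory.quotientCompQhIso (ModuleCat.{u} A)
  let qB := DerivedCategory.quotientCompQhIso (ModuleCat.{u} B)
  let T := resM A ⋙ HomotopyCategory.quotient (ModuleCat.{u} A) (ComplexShape.up ℤ)
  let e₁ : resM A ⋙ DerivedCategory.Q ⋙ DRing.LBaseChange φ ≅
      resM A ⋙ (HomotopyCategory.quotient (ModuleCat.{u} A) (ComplexShape.up ℤ) ⋙ DerivedCategory.Qh) ⋙
        DRing.LBaseChange φ :=
    Functor.isoWhiskerLeft (resM A) (Functor.isoWhiskerRight qA.symm _)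
  let e₂ : T ⋙ DerivedCategory.Qh ⋙ DRing.LBaseChange φ ≅ T ⋙ DRing.baseChangeKh φ :=
    haveI : ∀ K, IsIso ((Functor.whiskerLeft T (bcCounit φ)).app K) := fun K => isIso_bcCounit_app φ K
    @asIso _ _ _ _ (Functor.whiskerLeft T (bcCounit φ)) (NatIso.isIso_of_isIso_app _)
  let e₃ : T ⋙ DRing.baseChangeKh φ ≅ resM A ⋙ extCx φ ⋙
      (HomotopyCategory.quotient (ModuleCat.{u} B) (ComplexShape.up ℤ) ⋙ DerivedCategory.Qh) :=
    Functor.isoWhiskerLeft (resM A) (Functor.isoWhiskerRight
      ((ModuleCat.extendScalars.{u, u, u} φ).mapHomotopyCategoryFactors (ComplexShape.up ℤ)) DerivedCategory.Qh)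
  e₁ ≪≫ e₂ ≪≫ e₃ ≪≫ Functor.isoWhiskerLeft (resM A ⋙ extCx φ) qB

/-- The derived inverse image of the resolution. -/
def pullResIso : resM A ⋙ tilCx (CommRingCat.of A) ⋙ DerivedCategory.Q ⋙ DCoh.Lpull (specMap φ) ≅
    resM A ⋙ tilCx (CommRingCat.of A) ⋙ pullCx φ ⋙ DerivedCategory.Q :=
  let qA := DerivedCategory.quotientCompQhIso (Spec (CommRingCat.of A)).Modules
  let qB := DerivedCategory.quotientCompQhIso (Spec (CommRingCat.of B)).Modules
  let T := resM A ⋙ tilCx (CommRingCat.of A) ⋙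
    HomotopyCategory.quotient (Spec (CommRingCat.of A)).Modules (ComplexShape.up ℤ)
  let e₁ : resM A ⋙ tilCx (CommRingCat.of A) ⋙ DerivedCategory.Q ⋙ DCoh.Lpull (specMap φ) ≅
      T ⋙ DerivedCategory.Qh ⋙ DCoh.Lpull (specMap φ) :=
    Functor.isoWhiskerLeft (resM A ⋙ tilCx (CommRingCat.of A)) (Functor.isoWhiskerRight qA.symm _)
  let e₂ : T ⋙ DerivedCategory.Qh ⋙ DCoh.Lpull (specMap φ) ≅ T ⋙ DCoh.pullKh (specMap φ) :=
    haveI : ∀ K, IsIso ((Functor.whiskerLeft T (lpullCounit (specMap φ))).app K) := fun K =>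
      isIso_lpullCounit_app (specMap φ) _ (isKFlat_tilCx _ (isKFlat_resM A K)) (isFlat_tilCx _ (flat_resM A K))
    @asIso _ _ _ _ (Functor.whiskerLeft T (lpullCounit (specMap φ))) (NatIso.isIso_of_isIso_app _)
  let e₃ : T ⋙ DCoh.pullKh (specMap φ) ≅ resM A ⋙ tilCx (CommRingCat.of A) ⋙ pullCx φ ⋙
      (HomotopyCategory.quotient (Spec (CommRingCat.of B)).Modules (ComplexShape.up ℤ) ⋙ DerivedCategory.Qh) :=
    Functor.isoWhiskerLeft (resM A ⋙ tilCx (CommRingCat.of A)) (Functor.isoWhiskerRight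
      ((Scheme.Modules.pullback (specMap φ)).mapHomotopyCategoryFactors (ComplexShape.up ℤ)) DerivedCategory.Qh)
  e₁ ≪≫ e₂ ≪≫ e₃ ≪≫ Functor.isoWhiskerLeft (resM A ⋙ tilCx (CommRingCat.of A) ⋙ pullCx φ) qB

/-- Resolutions are invisible in the derived category. -/
def resQIso : resM A ⋙ DerivedCategory.Q ≅ DerivedCategory.Q :=
  NatIso.ofComponents (fun K => haveI := quasiIso_resMπ A K; asIso (DerivedCategory.Q.map ((resMπ A).app K)))
    fun {K L} g => by
      show DerivedCategory.Q.map ((resM A).map g) ≫ DerivedCategory.Q.map ((resMπ A).app L) =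
        DerivedCategory.Q.map ((resMπ A).app K) ≫ DerivedCategory.Q.map g
      rw [← Functor.map_comp, ← Functor.map_comp, (resMπ A).naturality g]
      rfl

/-- Derived base change corresponds to derived inverse image. -/
def lbcLpullIso : DRing.LBaseChange φ ⋙ DCoh.tildeD (CommRingCat.of B) ≅
    DCoh.tildeD (CommRingCat.of A) ⋙ DCoh.Lpull (specMap φ) :=
  let tA := tildeDFactors (CommRingCat.of A)
  let tB := tildeDFactors (CommRingCat.of B)
  let e : DerivedCategory.Q ⋙ DRing.LBaseChange φ ⋙ DCoh.tildeD (CommRingCat.of B) ≅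
      DerivedCategory.Q ⋙ DCoh.tildeD (CommRingCat.of A) ⋙ DCoh.Lpull (specMap φ) :=
    Functor.isoWhiskerRight (resQIso (A := A)).symm _ ≪≫
      Functor.isoWhiskerRight (bcResIso φ) (DCoh.tildeD (CommRingCat.of B)) ≪≫
      Functor.isoWhiskerLeft (resM A ⋙ extCx φ) tB ≪≫
      Functor.isoWhiskerLeft (resM A) (Functor.isoWhiskerRight (tilPullCxIso φ).symm DerivedCategory.Q) ≪≫
      (pullResIso φ).symm ≪≫
      Functor.isoWhiskerLeft (resM A) (Functor.isoWhiskerRight tA.symm (DCoh.Lpull (specMap φ))) ≪≫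
      Functor.isoWhiskerRight (resQIso (A := A)) (DCoh.tildeD (CommRingCat.of A) ⋙ DCoh.Lpull (specMap φ))
  Localization.liftNatIso DerivedCategory.Q (HomologicalComplex.quasiIso (ModuleCat.{u} A) (ComplexShape.up ℤ))
    (DerivedCategory.Q ⋙ DRing.LBaseChange φ ⋙ DCoh.tildeD (CommRingCat.of B))
    (DerivedCategory.Q ⋙ DCoh.tildeD (CommRingCat.of A) ⋙ DCoh.Lpull (specMap φ)) _ _ e

end Groth.Agent.TildeLpull
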