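import Groth.Agent.TildeKFlat.Main

/-!
# The sheaf of a flat module is flat
-/

set_option autoImplicit false
set_option linter.style.haveILetI false
set_option linter.unusedSectionVars false
set_option backward.isDefEq.respectTransparency false

universe u

open CategoryTheory Limits Opposite TopologicalSpace AlgebraicGeometry MonoidalCategory

noncomputable section

namespace Groth.Agent.TildeKFlat

open Groth.Agent.DCohLib

variable (R : CommRingCat.{u})

/-- The sheaf of a flat module is flat. -/
theorem isFlat_til (M : ModuleCat.{u} R) (hM : Module.Flat R M) : ModSite.IsFlat ((til R).obj M) := by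
  refine (Groth.Agent.ModTensor.isFlat_iff_preservesMono (specO R) _).2 fun {A B} f hf => ?_
  haveI := hf
  haveI : Mono ((SheafOfModules.toSheaf (ModSite.ringSh (specO R))).map
      (((ModSite.tensorBi (specO R)).map f).app ((til R).obj M))) := by
    suffices h : ∀ Φ : ObjectProperty.FullSubcategory
        (Opens.pointsGrothendieckTopology (Spec R).toTopCat), Mono ((Φ.obj.sheafFiber (A := AddCommGrpCat.{u})).map
          ((SheafOfModules.toSheaf (ModSite.ringSh (specO R))).map
            (((ModSite.tensorBi (specO R)).map f).app ((til R).obj M)))) from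
      @JointlyReflectMonomorphisms.mono _ _ _ _ _ _
        ((Opens.isConservativeFamilyOfPoints_pointsGrothendieckTopology
          (Spec R).toTopCat).jointlyReflectMonomorphisms AddCommGrpCat.{u}) _ _ _ h
    intro Φ
    let p := Φ.obj
    haveI : Mono ((stalkR R p).map f) := by
      haveI : Mono ((stalkR R p ⋙ forget₂ (ModuleCat.{u} R) AddCommGrpCat.{u}).map f) :=
        ((MorphismProperty.monomorphisms AddCommGrpCat.{u}).arrow_mk_iso_iff
          (((Functor.mapArrowFunctor _ _).mapIso (stalkRForget R p)).app (Arrow.mk f))).2
            (inferInstanceAs (Mono ((stalkF R p).map f)))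
      exact (forget₂ (ModuleCat.{u} R) AddCommGrpCat.{u}).mono_of_mono_map this
    haveI : Mono (((stalkR R p).map f) ▷ M) := by
      haveI := hM
      rw [ModuleCat.mono_iff_injective]
      exact Module.Flat.rTensor_preserves_injective_linearMap _ ((ModuleCat.mono_iff_injective _).1 ‹_›)
    haveI : Mono ((forget₂ (ModuleCat.{u} R) AddCommGrpCat.{u}).map (((stalkR R p).map f) ▷ M)) := inferInstance
    exact ((MorphismProperty.monomorphisms AddCommGrpCat.{u}).arrow_mk_iso_iff
      (Arrow.isoMk (((biIso (stalkTens R p)).app A).app M) (((biIso (stalkTens R p)).app B).app M)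
        (congr_app ((biIso (stalkTens R p)).hom.naturality f) M).symm)).1
      (show Mono ((forget₂ (ModuleCat.{u} R) AddCommGrpCat.{u}).map (((stalkR R p).map f) ▷ M)) from inferInstance)
  exact (SheafOfModules.toSheaf (ModSite.ringSh (specO R))).mono_of_mono_map this

end Groth.Agent.TildeKFlat
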