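import Groth.Agent.DCohLib.FunctRes
import Groth.Agent.KFlat.Module

/-!
# Functorial K-flat resolutions of complexes of modules
-/

set_option autoImplicit false
set_option linter.style.haveILetI false
set_option linter.unusedSectionVars false

universe u

open CategoryTheory Limits MonoidalCategory

noncomputable section

namespace Groth.Agent.TildeLpull

open Groth.Agent.KFlat Groth.Agent.DCohLib

variable (R : Type u) [CommRing R]

/-- The free cover of a module. -/
def covM : ModuleCat.{u} R ⥤ ModuleCat.{u} R := CategoryTheory.forget (ModuleCat.{u} R) ⋙ ModuleCat.free R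

/-- The free cover map of a module. -/
def covMπ : covM R ⟶ 𝟭 (ModuleCat.{u} R) := (ModuleCat.adj R).counit

instance epi_covMπ (M : ModuleCat.{u} R) : Epi ((covMπ R).app M) :=
  inferInstanceAs (Epi ((ModuleCat.adj R).counit.app M))

theorem flat_covM (M : ModuleCat.{u} R) : Module.Flat R ((covM R).obj M) :=
  (inferInstance : Module.Flat R (M →₀ R))

/-- The resolution functor. -/
abbrev resM : CochainComplex (ModuleCat.{u} R) ℤ ⥤ CochainComplex (ModuleCat.{u} R) ℤ := res (covM R) (covMπ R)

/-- The resolution map. -/
abbrev resMπ : resM R ⟶ 𝟭 (CochainComplex (ModuleCat.{u} R) ℤ) := resπ (covM R) (covMπ R)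

theorem quasiIso_resMπ (G : CochainComplex (ModuleCat.{u} R) ℤ) : QuasiIso ((resMπ R).app G) :=
  quasiIso_resπ (covM R) (covMπ R) G

theorem isKFlat_resM (G : CochainComplex (ModuleCat.{u} R) ℤ) :
    IsKFlatFor (curriedTensor (ModuleCat.{u} R)) ((resM R).obj G) :=
  isKFlatFor_res (covM R) (covMπ R) (flatClass R) (flat_covM R) G

theorem flat_resM (G : CochainComplex (ModuleCat.{u} R) ℤ) (n : ℤ) :
    Module.Flat R (((resM R).obj G).X n) :=
  res_X_flat (covM R) (covMπ R) (flatClass R) (flat_covM R) G n

end Groth.Agent.TildeLpull
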