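import Groth.Agent.TildeLpull.Flat
import Groth.Agent.TildeLpull.Res
import Groth.Agent.DCohLib.Pullback
import Groth.Agent.TildePullback.Basic

/-!
# Derived base change and derived inverse image
-/

set_option autoImplicit false
set_option linter.style.haveILetI false
set_option linter.unusedSectionVars false
set_option backward.isDefEq.respectTransparency false
set_option maxHeartbeats 1000000

universe u

open CategoryTheory Limits AlgebraicGeometry

attribute [local instance] HasDerivedCategory.standard

noncomputable section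

namespace Groth.Agent.TildeLpull

open Groth.Agent.KFlat Groth.Agent.DCohLib Groth.Agent.TildeKFlat

variable {A B : Type u} [CommRing A] [CommRing B] (φ : A →+* B)

/-- The morphism of spectra. -/
abbrev specMap : Spec (CommRingCat.of B) ⟶ Spec (CommRingCat.of A) := Spec.map (CommRingCat.ofHom φ)

/-- Sheaves of modules, on complexes. -/
abbrev tilCx (R : CommRingCat.{u}) :
    CochainComplex (ModuleCat.{u} R) ℤ ⥤ CochainComplex (Spec R).Modules ℤ :=
  (tilde.functor R).mapHomologicalComplex (ComplexShape.up ℤ)

/-- Extension of scalars, on complexes. -/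
abbrev extCx : CochainComplex (ModuleCat.{u} A) ℤ ⥤ CochainComplex (ModuleCat.{u} B) ℤ :=
  (ModuleCat.extendScalars.{u, u, u} φ).mapHomologicalComplex (ComplexShape.up ℤ)

/-- Inverse images, on complexes. -/
abbrev pullCx : CochainComplex (Spec (CommRingCat.of A)).Modules ℤ ⥤
    CochainComplex (Spec (CommRingCat.of B)).Modules ℤ :=
  (Scheme.Modules.pullback (specMap φ)).mapHomologicalComplex (ComplexShape.up ℤ)

/-- Sheaves of modules commute with extension of scalars, on complexes. -/
def tilPullCxIso :
    tilCx (CommRingCat.of A) ⋙ pullCx φ ≅ extCx φ ⋙ tilCx (CommRingCat.of B) :=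
  NatIso.ofComponents (fun K => HomologicalComplex.Hom.isoOfComponents
      (fun n => (Groth.Agent.TildePullback.tildePullbackIso (CommRingCat.ofHom φ)).app (K.X n))
      fun i j _ => ((Groth.Agent.TildePullback.tildePullbackIso (CommRingCat.ofHom φ)).hom.naturality (K.d i j)).symm)
    fun {K L} g => by
      ext n : 1
      exact (Groth.Agent.TildePullback.tildePullbackIso (CommRingCat.ofHom φ)).hom.naturality (g.f n)

theorem isKFlat_tilCx (K : CochainComplex (ModuleCat.{u} A) ℤ)
    (hK : IsKFlatFor (MonoidalCategory.curriedTensor (ModuleCat.{u} A)) K) :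
    DCoh.IsKFlat ((tilCx (CommRingCat.of A)).obj K) :=
  (Groth.Agent.DCohLib.isKFlat_iff _).2 (isKFlat_til (CommRingCat.of A) K hK)

theorem isFlat_tilCx (K : CochainComplex (ModuleCat.{u} A) ℤ) (hK : ∀ n, Module.Flat A (K.X n)) (n : ℤ) :
    FlatMod.IsFlat (((tilCx (CommRingCat.of A)).obj K).X n) :=
  (Groth.Agent.DCohLib.isFlat_iff _).2 (isFlat_til (CommRingCat.of A) (K.X n) (hK n))

theorem preservesHomology_tilde (R : CommRingCat.{u}) [PreservesFiniteLimits (tilde.functor R)] :
    (tilde.functor R).PreservesHomology := by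
  haveI : PreservesColimitsOfSize.{0, 0} (tilde.functor R) :=
    haveI : PreservesColimitsOfSize.{u, u} (tilde.functor R) := tilde.adjunction.leftAdjoint_preservesColimits
    preservesColimitsOfSize_shrink _
  haveI : PreservesFiniteColimits (tilde.functor R) := PreservesColimitsOfSize.preservesFiniteColimits _
  infer_instance

variable [PreservesFiniteLimits (tilde.functor (CommRingCat.of A))]
  [PreservesFiniteLimits (tilde.functor (CommRingCat.of B))]

/-- Extension of scalars preserves quasi-isomorphisms of K-flat complexes with flat terms. -/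
theorem quasiIso_extCx_map {P Q : CochainComplex (ModuleCat.{u} A) ℤ} (α : P ⟶ Q) (hα : QuasiIso α)
    (hP : IsKFlatFor (MonoidalCategory.curriedTensor (ModuleCat.{u} A)) P)
    (hQ : IsKFlatFor (MonoidalCategory.curriedTensor (ModuleCat.{u} A)) Q)
    (hP' : ∀ n, Module.Flat A (P.X n)) (hQ' : ∀ n, Module.Flat A (Q.X n)) :
    QuasiIso ((extCx φ).map α) := by
  haveI := hα
  haveI : (tilde.functor (CommRingCat.of A)).Additive := Groth.Agent.TildeKFlat.additive_til (CommRingCat.of A)
  haveI : (tilde.functor (CommRingCat.of B)).Additive := Groth.Agent.TildeKFlat.additive_til (CommRingCat.of B)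
  haveI := preservesHomology_tilde (CommRingCat.of A)
  haveI := preservesHomology_tilde (CommRingCat.of B)
  haveI : QuasiIso ((tilCx (CommRingCat.of A)).map α) :=
    HomologicalComplex.quasiIso_map_of_preservesHomology α (tilde.functor (CommRingCat.of A))
  haveI h : QuasiIso ((tilCx (CommRingCat.of A) ⋙ pullCx φ).map α) :=
    quasiIso_pullback_map (specMap φ) _ this (isKFlat_tilCx P hP) (isKFlat_tilCx Q hQ)
      (isFlat_tilCx P hP') (isFlat_tilCx Q hQ')
  haveI hq : QuasiIso ((tilCx (CommRingCat.of B)).map ((extCx φ).map α)) :=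
    (quasiIso_iff_of_arrow_mk_iso _ _
      (((Functor.mapArrowFunctor _ _).mapIso (tilPullCxIso φ)).app (Arrow.mk α))).1 h
  haveI : (tilde.functor (CommRingCat.of B)).ReflectsIsomorphisms :=
    @CategoryTheory.reflectsIsomorphisms_of_full_and_faithful _ _ _ _ _
      (tilde.fullyFaithfulFunctor (R := CommRingCat.of B)).full (tilde.fullyFaithfulFunctor (R := CommRingCat.of B)).faithful
  exact (HomologicalComplex.quasiIso_map_iff_of_preservesHomology _ (tilde.functor (CommRingCat.of B))).1 hq

/-- The functor to derive. -/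
abbrev quotBCKh : CochainComplex (ModuleCat.{u} A) ℤ ⥤ Dual.D B :=
  HomotopyCategory.quotient (ModuleCat.{u} A) (ComplexShape.up ℤ) ⋙ DRing.baseChangeKh φ

theorem isIso_quotBCKh_map {P Q : CochainComplex (ModuleCat.{u} A) ℤ} (α : P ⟶ Q) (hα : QuasiIso α)
    (hP : IsKFlatFor (MonoidalCategory.curriedTensor (ModuleCat.{u} A)) P)
    (hQ : IsKFlatFor (MonoidalCategory.curriedTensor (ModuleCat.{u} A)) Q)
    (hP' : ∀ n, Module.Flat A (P.X n)) (hQ' : ∀ n, Module.Flat A (Q.X n)) :
    IsIso ((quotBCKh φ).map α) := by
  haveI := quasiIso_extCx_map φ α hα hP hQ hP' hQ'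
  exact Localization.inverts DerivedCategory.Qh (HomotopyCategory.quasiIso (ModuleCat.{u} B) (ComplexShape.up ℤ)) _
    ((HomotopyCategory.quotient_map_mem_quasiIso_iff _).2 ((HomologicalComplex.mem_quasiIso_iff _).2 this))

theorem quasiIso_resM_map {K L : CochainComplex (ModuleCat.{u} A) ℤ} (g : K ⟶ L) (hg : QuasiIso g) :
    QuasiIso ((resM A).map g) := by
  haveI := hg
  haveI := quasiIso_resMπ A K
  haveI := quasiIso_resMπ A L
  haveI : QuasiIso ((resM A).map g ≫ (resMπ A).app L) := by
    rw [(resMπ A).naturality g]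
    exact quasiIso_comp _ g
  exact quasiIso_of_comp_right _ ((resMπ A).app L)

/-- The resolution adapted to extension of scalars. -/
def bcAdapted : Adapted (HomologicalComplex.quasiIso (ModuleCat.{u} A) (ComplexShape.up ℤ)) (quotBCKh φ) where
  P := resM A
  ψ := resMπ A
  hψ K := (HomologicalComplex.mem_quasiIso_iff _).2 (quasiIso_resMπ A K)
  inverts K L g hg := isIso_quotBCKh_map φ _ (quasiIso_resM_map g ((HomologicalComplex.mem_quasiIso_iff _).1 hg))
    (isKFlat_resM A K) (isKFlat_resM A L) (flat_resM A K) (flat_resM A L)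
  isIso_map K := isIso_quotBCKh_map φ _ (quasiIso_resMπ A _) (isKFlat_resM A _) (isKFlat_resM A _)
    (flat_resM A _) (flat_resM A _)

end Groth.Agent.TildeLpull
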